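import Cfsg.Agent.H721.SR.Base
import Cfsg.Agent.ClassicalGeometry.SympInvolutions
import Cfsg.Prelude.Def_Classical

/-!
# TEAM SR: a transvection of `PSp₄(3)` is not real (helper834)
-/

set_option autoImplicit false

namespace Cfsg.Agent.H834.SR

open Matrix Cfsg Cfsg.Agent.H721.SR

variable {K : Type*} [Field K]

/-- the transvection matrix -/
def tm (K : Type*) [Field K] : Matrix (Fin 2 ⊕ Fin 2) (Fin 2 ⊕ Fin 2) K :=
  fromBlocks 1 !![1, 0; 0, 0] 0 1

theorem tm_mem : tm K ∈ symplecticGroup (Fin 2) K := by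
  rw [SymplecticGroup.mem_iff, tm, Matrix.J, fromBlocks_transpose, fromBlocks_multiply, fromBlocks_multiply]
  congr 1 <;> ext i j <;> fin_cases i <;> fin_cases j <;> simp

/-- the transvection -/
def tv (K : Type*) [Field K] : symplecticGroup (Fin 2) K := ⟨tm K, tm_mem⟩

theorem tm_cube (h3 : (3 : K) = 0) : tm K ^ 3 = 1 := by
  have h2 : (1 : K) + (1 + 1) = 0 := by rw [← h3]; norm_num
  rw [pow_succ, pow_two, tm, fromBlocks_multiply, fromBlocks_multiply, ← fromBlocks_one]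
  congr 1 <;> ext i j <;> fin_cases i <;> fin_cases j <;> simp [h2]

theorem nrel_psp_three [Fintype K] (hK : Fintype.card K = 3) : NRel (PSp 2 K) := by
  let e : ZMod 3 ≃+* K := ZMod.ringEquivOfPrime K Nat.prime_three hK
  have h3 : (3 : K) = 0 := by
    have h : e 3 = e 0 := by congr 1
    rw [map_ofNat, map_zero] at h
    exact h
  have hsq : ∀ a : K, a * a ≠ -1 := by
    intro a ha
    have h1 : e.symm a * e.symm a = -1 := by rw [← map_mul, ha, map_neg, map_one]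
    revert h1
    generalize e.symm a = b
    revert b
    decide
  have hneg : (-1 : K) ≠ 1 := fun h => hsq 1 (by rw [one_mul, h])
  have ht3 : tv K ^ 3 = 1 := Subtype.ext (tm_cube h3)
  refine ⟨QuotientGroup.mk (tv K), fun hc => ?_⟩
  obtain ⟨y, hy⟩ := isConj_iff.1 hc
  obtain ⟨g, rfl⟩ := QuotientGroup.mk_surjective y
  rw [← QuotientGroup.mk_mul, ← QuotientGroup.mk_inv, ← QuotientGroup.mk_inv, ← QuotientGroup.mk_mul,
    QuotientGroup.eq] at hy
  set z := (g * tv K * g⁻¹)⁻¹ * (tv K)⁻¹ with hz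
  have hzc := hy
  have h1 : g * tv K * g⁻¹ * z = (tv K)⁻¹ := by rw [hz]; group
  -- the central element is trivial
  have hz3 : z ^ 3 = 1 := by
    have hcomm : Commute (g * tv K * g⁻¹) z := (Subgroup.mem_center_iff.1 hzc _)
    have h2 : (g * tv K * g⁻¹ * z) ^ 3 = 1 := by rw [h1, inv_pow, ht3, inv_one]
    rw [hcomm.mul_pow, conj_pow, ht3, mul_one, mul_inv_cancel, one_mul] at h2
    exact h2
  have hz1 : z = 1 := by
    rcases Cfsg.Agent.ClassicalGeometry.SympInvolutions.center_eq hzc with h | h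
    · exact Subtype.ext h
    · exfalso
      have h2 : ((z ^ 3 : symplecticGroup (Fin 2) K) : Matrix (Fin 2 ⊕ Fin 2) (Fin 2 ⊕ Fin 2) K) = 1 := by
        rw [hz3]; rfl
      have h4 : ((z : symplecticGroup (Fin 2) K) : Matrix (Fin 2 ⊕ Fin 2) (Fin 2 ⊕ Fin 2) K) ^ 3 = 1 := h2
      rw [h] at h4
      have h5 := congrFun (congrFun h4 (Sum.inl 0)) (Sum.inl 0)
      rw [Odd.neg_one_pow (by decide), Matrix.neg_apply, Matrix.one_apply_eq] at h5
      exact hneg h5
  rw [hz1, mul_one] at h1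
  have h2 : tv K * g * tv K = g := by
    have h4 : g * tv K = (tv K)⁻¹ * g := by rw [← h1]; group
    rw [mul_assoc, h4]; group
  set M : Matrix (Fin 2 ⊕ Fin 2) (Fin 2 ⊕ Fin 2) K := (g : Matrix (Fin 2 ⊕ Fin 2) (Fin 2 ⊕ Fin 2) K) with hM
  have h4 : tm K * M * tm K = M := congrArg Subtype.val h2
  have h5 : M * Matrix.J (Fin 2) K * Mᵀ = Matrix.J (Fin 2) K := SymplecticGroup.mem_iff.1 g.2
  have e1 := congrFun (congrFun h4 (Sum.inl 0)) (Sum.inl 0)
  have e2 := congrFun (congrFun h4 (Sum.inl 0)) (Sum.inl 1)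
  have e3 := congrFun (congrFun h4 (Sum.inl 0)) (Sum.inr 0)
  have e4 := congrFun (congrFun h4 (Sum.inl 0)) (Sum.inr 1)
  have e5 := congrFun (congrFun h5 (Sum.inl 0)) (Sum.inr 0)
  simp [tm, Matrix.mul_apply, Fintype.sum_sum_type, Fin.sum_univ_two, Matrix.J] at e1 e2 e3 e4 e5
  apply hsq (M (Sum.inl 0) (Sum.inl 0))
  linear_combination e5 + M (Sum.inl 0) (Sum.inl 0) * e3 - M (Sum.inl 0) (Sum.inl 0) * e1
    - M (Sum.inl 0) (Sum.inr 0) * e1 - M (Sum.inl 0) (Sum.inr 1) * e2 + M (Sum.inl 0) (Sum.inl 1) * e4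

end Cfsg.Agent.H834.SR
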