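import Cfsg.Agent.H721.SR.Base
import Cfsg.Agent.H304.PpdForm
import Cfsg.Agent.H251.GeoU
import Cfsg.Agent.H264.FKS.ResCore
import Cfsg.Agent.S0822
import Cfsg.Agent.H834.SR.PspThree

/-!
# TEAM SR, row PSU: `PSU_n(q)` has a non-real element (helper834)

* `not_conj_scalar` : an element of `GL_n(F)` of prime order `u`, `orderOf (|F| mod u) = e` odd, `n < 2 e`, is not
  conjugate to a scalar multiple of its inverse;
* `nrel_psu`, `rr_psu`.
-/

set_option autoImplicit false

namespace Cfsg.Agent.H834.SR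

open Matrix Cfsg Cfsg.Geo Cfsg.Agent.H721.SR Cfsg.Agent.H304.Ppd
open scoped MatrixGroups

section Lin

variable {F : Type*} [Field F] [Fintype F] {ι : Type} [Fintype ι] [DecidableEq ι]

/-- not conjugate to the inverse -/
theorem not_conj_inv {u e : ℕ} (hu : u.Prime) (hu2 : u ≠ 2)
    (hord : orderOf ((Fintype.card F : ℕ) : ZMod u) = e) (hodd : Odd e)
    (hqu : ¬ u ∣ Fintype.card F) (hn : Fintype.card ι < 2 * e) {x g : GL ι F} (hx : orderOf x = u)
    (h : g * x * g⁻¹ = x⁻¹) : False := by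
  have hmu : ¬ u ∣ u - 1 := fun h => absurd (Nat.le_of_dvd (by have := hu.two_le; omega) h) (by
    have := hu.two_le; omega)
  obtain ⟨i, hi⟩ := exists_exponent hu hord hqu hn hx hmu (by
    intro l hlu hl
    have h1 : ((x⁻¹ : GL ι F) : Matrix ι ι F) * (x : Matrix ι ι F) = 1 := by
      rw [← Units.val_mul, inv_mul_cancel, Units.val_one]
    obtain ⟨h2, hl0⟩ := Ev.inv h1 hl
    have hdet : ((g⁻¹ : GL ι F) : Matrix ι ι F).det ≠ 0 := by
      intro h0
      have h3 : ((g⁻¹ : GL ι F) : Matrix ι ι F).det * (g : Matrix ι ι F).det = 1 := by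
        rw [← Matrix.det_mul, ← Units.val_mul, inv_mul_cancel, Units.val_one, Matrix.det_one]
      rw [h0, zero_mul] at h3
      exact zero_ne_one h3
    have h3 : (x : Matrix ι ι F) * ((g⁻¹ : GL ι F) : Matrix ι ι F) =
        ((g⁻¹ : GL ι F) : Matrix ι ι F) * ((x⁻¹ : GL ι F) : Matrix ι ι F) := by
      rw [← Units.val_mul, ← Units.val_mul]
      congr 1
      rw [← h]
      group
    have h5 := Ev.conj hdet h3 h2
    have h6 : l ^ (u - 1) = l⁻¹ := by
      apply eq_inv_of_mul_eq_one_left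
      rw [← pow_succ, Nat.sub_add_cancel hu.one_lt.le, hlu]
    rw [h6]
    exact h5)
  rw [Nat.cast_sub hu.one_lt.le, ZMod.natCast_self, zero_sub, Nat.cast_one] at hi
  exact (Nat.not_even_iff_odd.2 hodd) (even_of_neg_one hu hu2 hord hi)

/-- not conjugate to a scalar multiple of the inverse -/
theorem not_conj_scalar {u e : ℕ} (hu : u.Prime) (hu2 : u ≠ 2)
    (hord : orderOf ((Fintype.card F : ℕ) : ZMod u) = e) (hodd : Odd e) (he : 2 ≤ e)
    (hqu : ¬ u ∣ Fintype.card F) (hn : Fintype.card ι < 2 * e) {x g c : GL ι F} (hx : orderOf x = u)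
    (hc : c ∈ scalars ι F) (h : g * x * g⁻¹ = c * x⁻¹) : False := by
  classical
  obtain ⟨a, rfl⟩ := hc
  set φ : Fˣ →* GL ι F := Units.map (Matrix.scalar ι : F →+* Matrix ι ι F).toMonoidHom with hφ
  have hcomm : Commute (φ a) x⁻¹ := by
    have h1 : Commute (φ a) x := by
      apply Units.ext
      show Matrix.scalar ι (a : F) * (x : Matrix ι ι F) = (x : Matrix ι ι F) * Matrix.scalar ι (a : F)
      exact Matrix.scalar_commute (a : F) (fun r => Commute.all _ r) _
    exact h1.inv_right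
  have hxu : x ^ u = 1 := by rw [← hx, pow_orderOf_eq_one]
  have h1 : φ (a ^ u) = 1 := by
    have h2 : (g * x * g⁻¹) ^ u = (φ a * x⁻¹) ^ u := by rw [h]
    rw [conj_pow, hxu, mul_one, mul_inv_cancel, hcomm.mul_pow, inv_pow, hxu, inv_one, mul_one, ← map_pow] at h2
    exact h2.symm
  have hne : Nonempty ι := by
    by_contra hcon
    rw [not_nonempty_iff] at hcon
    have : x = 1 := Subsingleton.elim _ _
    rw [this, orderOf_one] at hx
    exact hu.one_lt.ne hx
  have hau : a ^ u = 1 := by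
    obtain ⟨i⟩ := hne
    have h2 := congrFun (congrFun (congrArg (fun y : GL ι F => (y : Matrix ι ι F)) h1) i) i
    have h3 : Matrix.scalar ι ((a ^ u : Fˣ) : F) i i = (1 : Matrix ι ι F) i i := h2
    rw [Matrix.scalar_apply, Matrix.diagonal_apply_eq, Matrix.one_apply_eq] at h3
    exact Units.ext h3
  have ha1 : a = 1 := by
    have h2 : orderOf a ∣ u := orderOf_dvd_of_pow_eq_one hau
    rcases (Nat.dvd_prime hu).1 h2 with h3 | h3
    · exact orderOf_eq_one_iff.1 h3
    · exfalso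
      have h4 : u ∣ Fintype.card F - 1 := by
        rw [← h3, ← Fintype.card_units]
        exact orderOf_dvd_card
      have hF : 1 ≤ Fintype.card F := Fintype.card_pos
      have h5 : ((Fintype.card F : ℕ) : ZMod u) = 1 := by
        have h6 : ((Fintype.card F - 1 : ℕ) : ZMod u) = 0 := (ZMod.natCast_eq_zero_iff _ _).2 h4
        rw [Nat.cast_sub hF, Nat.cast_one, sub_eq_zero] at h6
        exact h6
      rw [h5, orderOf_one] at hord
      omega
  rw [ha1, map_one, one_mul] at h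
  exact not_conj_inv hu hu2 hord hodd hqu hn hx h

end Lin

theorem nrel_psu {F : Type} [Field F] [Fintype F] {n q : ℕ} (hF : Fintype.card F = q ^ 2) (hn : 3 ≤ n)
    (h32 : ¬ (n = 3 ∧ q = 2)) : NRel (PSU n F q) := by
  by_cases h42 : n = 4 ∧ q = 2
  · obtain ⟨rfl, rfl⟩ := h42
    have : Fact (Nat.Prime 3) := ⟨Nat.prime_three⟩
    obtain ⟨e⟩ := Cfsg.Agent.S0822.result (F := F) (K := ZMod 3) (by rw [hF]; norm_num) (ZMod.card 3)
    exact (nrel_psp_three (K := ZMod 3) (ZMod.card 3)).congr e.symm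
  obtain ⟨p, f, hp, hf, hq, -⟩ := H251.GeoU.exists_prime_power hF
  obtain ⟨m, hm, hmn, hnm, hm3⟩ : ∃ m, Odd m ∧ m ≤ n ∧ n ≤ m + 1 ∧ 3 ≤ m := by
    rcases Nat.even_or_odd n with ⟨k, hk⟩ | h
    · exact ⟨n - 1, ⟨k - 1, by omega⟩, by omega, by omega, by omega⟩
    · exact ⟨n, h, le_rfl, by omega, by omega⟩
  obtain ⟨s, hs, hiff, hs1, hord⟩ := H251.GeoU.exists_big hp hf hm3 hm (by
    rintro ⟨h1, h2⟩
    rw [← hq] at h2
    have h3 : n = 3 ∨ n = 4 := by omega
    rcases h3 with h3 | h3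
    · exact h32 ⟨h3, h2⟩
    · exact h42 ⟨h3, h2⟩)
  rw [← hq] at hord
  have hs2 : s ≠ 2 := by
    rintro rfl
    have h1 := Nat.le_of_dvd (by norm_num) hs1
    have h2 : 2 * m * 1 ≤ 2 * m * f := Nat.mul_le_mul_left _ hf
    omega
  have hsq : ¬ s ∣ q := H251.GeoU.not_dvd_of_ord hs hord (by omega)
  have hsF : ¬ s ∣ Fintype.card F := by
    rw [hF]
    exact fun h => hsq (hs.dvd_of_dvd_pow h)
  have hord2 : orderOf ((Fintype.card F : ℕ) : ZMod s) = m := by
    rw [hF]
    exact H251.GeoU.ord_sq_odd hord hm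
  have hdvd : s ∣ Nat.card (PSU n F q) := H149.PGU.dvd_card_psu hF (by omega) hs (by omega) hmn hord
  have hfin : Finite (SU n F q) := inferInstance
  have hdvd2 : s ∣ Nat.card (SU n F q) := hdvd.trans (Subgroup.card_quotient_dvd_card _)
  have := Fact.mk hs
  obtain ⟨A, hA⟩ := exists_prime_orderOf_dvd_card' s hdvd2
  set ψ := H918.suHom n F q with hψ
  have hA' : orderOf (ψ A) = s := by rw [orderOf_injective ψ H918.suHom_injective, hA]
  refine ⟨QuotientGroup.mk' (Subgroup.center (SU n F q)) A, fun hc => ?_⟩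
  obtain ⟨y, hy⟩ := isConj_iff.1 hc
  obtain ⟨B, rfl⟩ := QuotientGroup.mk'_surjective _ y
  have h1 : QuotientGroup.mk' (Subgroup.center (SU n F q)) (B * A * B⁻¹ * A) = 1 := by
    rw [map_mul, map_mul, map_mul, map_inv, hy, inv_mul_cancel]
  have h2 := (Cfsg.Agent.H264.FKS.hker_su hF hn _).1 h1
  refine not_conj_scalar (g := ψ B) (x := ψ A) (c := ψ (B * A * B⁻¹ * A)) hs hs2 hord2 hm (by omega) hsF
    (by rw [Fintype.card_fin]; omega) hA' h2 ?_
  rw [map_mul, map_mul, map_mul, map_inv]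
  group

/-- **Row PSU.** -/
theorem rr_psu {S : Type*} [Group S] (h : Cfsg.IsPSU S) : RR S := by
  obtain ⟨F, i1, i2, n, q, hF, hn, h32, ⟨e⟩⟩ := h
  exact RR.of_nrel ((nrel_psu hF hn h32).congr e.symm)

end Cfsg.Agent.H834.SR
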